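import Cfsg.Agent.H45.Uni.Curtis

/-!
# Theorem (U), abstract part: transfer from the finite group to the algebraic group

* `exists_fix` : a finite `p`-group has nonzero fixed vectors in characteristic `p`;
* `Dat.eq_zero_of_S` : a function in `L` which is zero on the finite group `S` is zero;
* `Dat.transfer` : the same for the translates on the other side;
* `Dat.ann` : relations of a module vector with the same data hold for `c`.
-/

set_option autoImplicit false
set_option linter.unusedSectionVars false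

namespace Cfsg.Agent.H45.Uni

open Polynomial Finset

/-- a finite `p`-group has nonzero fixed vectors in characteristic `p` -/
theorem exists_fix {p : ℕ} [Fact p.Prime] {P V k : Type*} [Group P] [Finite P] (hP : IsPGroup p P) [Field k]
    [CharP k p] [AddCommGroup V] [Module k V] (ρ : P →* Module.End k V) {v : V} (hv : v ≠ 0) :
    ∃ w ∈ Submodule.span k (Set.range fun g => ρ g v), w ≠ 0 ∧ ∀ g, ρ g w = w := by
  classical
  let A : AddSubgroup V := AddSubgroup.closure (Set.range fun g => ρ g v)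
  have hA : A ≤ (Submodule.span k (Set.range fun g => ρ g v)).toAddSubgroup := by
    rw [AddSubgroup.closure_le]
    exact Submodule.subset_span
  have hpx : ∀ x : V, p • x = 0 := by
    intro x
    rw [← Nat.cast_smul_eq_nsmul k, CharP.cast_eq_zero, zero_smul]
  have hfg : AddGroup.FG A := by
    rw [AddGroup.fg_iff_addSubgroup_fg]
    exact ⟨(Set.finite_range fun g => ρ g v).toFinset, by rw [Set.Finite.coe_toFinset]⟩
  have htor : IsAddTorsion A := by
    intro x
    rw [isOfFinAddOrder_iff_nsmul_eq_zero]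
    exact ⟨p, (Fact.out : p.Prime).pos, Subtype.ext (hpx x)⟩
  have hfin : Finite A := AddCommGroup.finite_of_fg_isAddTorsion A htor
  have hst : ∀ (g : P) (x : V), x ∈ A → ρ g x ∈ A := by
    intro g x hx
    induction hx using AddSubgroup.closure_induction with
    | mem x hx =>
      obtain ⟨h, rfl⟩ := hx
      refine AddSubgroup.subset_closure ⟨g * h, ?_⟩
      show ρ (g * h) v = ρ g (ρ h v)
      rw [map_mul]; rfl
    | zero => rw [map_zero]; exact A.zero_mem
    | add x y _ _ h1 h2 => rw [map_add]; exact A.add_mem h1 h2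
    | neg x _ h1 => rw [map_neg]; exact A.neg_mem h1
  let _ : MulAction P A :=
    { smul := fun g x => ⟨ρ g x.1, hst g x.1 x.2⟩
      one_smul := fun x => Subtype.ext (by show ρ 1 x.1 = x.1; rw [map_one]; rfl)
      mul_smul := fun g h x => Subtype.ext (by
        show ρ (g * h) x.1 = ρ g (ρ h x.1)
        rw [map_mul]; rfl) }
  have hvA : v ∈ A := AddSubgroup.subset_closure ⟨1, by show ρ 1 v = v; rw [map_one]; rfl⟩
  have hdvd : p ∣ Nat.card A := by
    have h1 : addOrderOf (⟨v, hvA⟩ : A) = p := by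
      apply addOrderOf_eq_prime
      · exact Subtype.ext (hpx v)
      · intro h; exact hv (congrArg Subtype.val h)
    rw [← h1]
    exact addOrderOf_dvd_natCard _
  have h0 : (0 : A) ∈ MulAction.fixedPoints P A := fun g => Subtype.ext (map_zero (ρ g))
  obtain ⟨b, hb, hb0⟩ := hP.exists_fixed_point_of_prime_dvd_card_of_fixed_point A hdvd h0
  refine ⟨b.1, hA b.2, fun h => hb0 (Subtype.ext h.symm), fun g => congrArg Subtype.val (hb g)⟩

/-- the representation by right translation -/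
def RRep {k G : Type*} [Field k] [Group G] : G →* Module.End k (G → k) where
  toFun := RR
  map_one' := by ext F : 1; exact RR_one F
  map_mul' a b := by ext F : 1; exact RR_mul a b F

namespace Dat

variable {p : ℕ} {ι k G : Type*} [Field k] [Group G] [Infinite k] (D : Dat p ι k G) [Fact p.Prime] [CharP k p]

/-- **a function in `L` which is zero on the finite group is zero** -/
theorem eq_zero_of_S {S : Subgroup G} {P : Subgroup G} [Finite P] (hP : IsPGroup p P) (hPS : P ≤ S)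
    (hx : ∀ i, D.x i 1 ∈ P) {F : G → k} (hF : F ∈ D.L) (h0 : ∀ g ∈ S, F g = 0) : F = 0 := by
  by_contra hne
  obtain ⟨w, hw, hw0, hfix⟩ := exists_fix hP ((RRep (k := k) (G := G)).comp P.subtype) hne
  have hw1 : w ∈ D.L ∧ ∀ g ∈ S, w g = 0 := by
    refine Submodule.span_induction (p := fun w _ => w ∈ D.L ∧ ∀ g ∈ S, w g = 0) ?_ ?_ ?_ ?_ hw
    · rintro _ ⟨u, rfl⟩
      exact ⟨D.RR_mem _ hF, fun g hg => h0 _ (S.mul_mem hg (hPS u.2))⟩
    · exact ⟨D.L.zero_mem, fun g _ => rfl⟩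
    · rintro a b _ _ ⟨h1, h2⟩ ⟨h3, h4⟩
      exact ⟨D.L.add_mem h1 h3, fun g hg => by rw [Pi.add_apply, h2 g hg, h4 g hg, add_zero]⟩
    · rintro a b _ ⟨h1, h2⟩
      exact ⟨D.L.smul_mem a h1, fun g hg => by rw [Pi.smul_apply, h2 g hg, smul_zero]⟩
  obtain ⟨a, ha⟩ := D.fix_le hw1.1 (fun i g => congrFun (hfix ⟨D.x i 1, hx i⟩) g)
  have h1 := hw1.2 1 S.one_mem
  rw [ha, Pi.smul_apply, D.c_one, smul_eq_mul, mul_one] at h1
  rw [h1, zero_smul] at ha
  exact hw0 ha

/-- a linear combination of translates on the left -/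
theorem eq_zero_of_S_left {S : Subgroup G} {P : Subgroup G} [Finite P] (hP : IsPGroup p P) (hPS : P ≤ S)
    (hx : ∀ i, D.x i 1 ∈ P) (τ : G → G) (hτ : ∀ a b, τ (a * b) = τ b * τ a) (hττ : ∀ a, τ (τ a) = a)
    (hcτ : ∀ a, D.c (τ a) = D.c a) (hS : ∀ a ∈ S, τ a ∈ S) {α : Type*} (s : Finset α) (β : α → k) (h : α → G)
    (h0 : ∀ g ∈ S, ∑ a ∈ s, β a * D.c (h a * g) = 0) (g : G) : ∑ a ∈ s, β a * D.c (h a * g) = 0 := by
  have e : ∀ g : G, ∑ a ∈ s, β a * D.c (h a * g) = (∑ a ∈ s, β a • RR (τ (h a)) D.c) (τ g) := by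
    intro g
    rw [Finset.sum_apply]
    refine Finset.sum_congr rfl fun a _ => ?_
    rw [Pi.smul_apply, smul_eq_mul, RR_apply, ← hτ, hcτ]
  have h1 : (∑ a ∈ s, β a • RR (τ (h a)) D.c) = 0 := by
    apply D.eq_zero_of_S hP hPS hx
    · exact Submodule.sum_mem _ fun a _ => D.L.smul_mem _ (D.RR_mem _ D.c_mem)
    · intro g hg
      rw [← hττ g, ← e]
      exact h0 _ (hS g hg)
  rw [e, h1]
  rfl

/-- **transfer** -/
theorem transfer {S : Subgroup G} {P : Subgroup G} [Finite P] (hP : IsPGroup p P) (hPS : P ≤ S)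
    (hx : ∀ i, D.x i 1 ∈ P) (τ : G → G) (hτ : ∀ a b, τ (a * b) = τ b * τ a) (hττ : ∀ a, τ (τ a) = a)
    (hcτ : ∀ a, D.c (τ a) = D.c a) (hS : ∀ a ∈ S, τ a ∈ S) {α : Type*} (s : Finset α) (z : α → G)
    (h0 : ∀ h ∈ S, ∀ g ∈ S, ∑ a ∈ s, D.c (h * z a * g) = 0) (h g : G) : ∑ a ∈ s, D.c (h * z a * g) = 0 := by
  -- first all `h`, for `g ∈ S`
  have h1 : ∀ h, ∀ g ∈ S, ∑ a ∈ s, D.c (h * z a * g) = 0 := by
    intro h g hg
    have e : ∀ h : G, ∑ a ∈ s, D.c (h * z a * g) = (∑ a ∈ s, RR (z a * g) D.c) h := by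
      intro h
      rw [Finset.sum_apply]
      exact Finset.sum_congr rfl fun a _ => by rw [RR_apply, mul_assoc]
    have h2 : (∑ a ∈ s, RR (z a * g) D.c) = 0 := by
      apply D.eq_zero_of_S hP hPS hx
      · exact Submodule.sum_mem _ fun a _ => D.RR_mem _ D.c_mem
      · intro h hh
        rw [← e]
        exact h0 h hh g hg
    rw [e, h2]
    rfl
  have h2 := D.eq_zero_of_S_left hP hPS hx τ hτ hττ hcτ hS s (fun _ => 1) (fun a => h * z a)
    (fun g hg => by simpa using h1 h g hg) g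
  simpa using h2

end Dat

/-- **relations**: if `v` and `c` generate the same thing under a `p`-group `Q` fixing `c` on the left as under `S`,
then every linear combination of elements of `S` which kills `v` kills `c` (as a function on `S`) -/
theorem ann {p : ℕ} [Fact p.Prime] {S V k : Type*} [Group S] [Field k] [CharP k p] [AddCommGroup V]
    [Module k V] (ρ : S →* Module.End k V) {v : V} (hv : v ≠ 0) (c : S → k)
    {Q : Subgroup S} [Finite Q] (hQ : IsPGroup p Q) (hcQ : ∀ u ∈ Q, c u = 1)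
    (hgen : ∀ g : S, ((ρ g v, RR g c) : V × (S → k)) ∈ Submodule.span k
      {x : V × (S → k) | ∃ u ∈ Q, x = (ρ u v, RR u c)})
    {α : Type*} (s : Finset α) (β : α → k) (z : α → S) (h0 : ∑ a ∈ s, β a • ρ (z a) v = 0) (h : S) :
    ∑ a ∈ s, β a * c (h * z a) = 0 := by
  classical
  -- a functional on the span of `Q v` fixed by `Q`
  let V1 : Submodule k V := Submodule.span k (Set.range fun u : Q => ρ u v)
  have hV1 : ∀ u : Q, ∀ x ∈ V1, ρ u x ∈ V1 := by
    intro u x hx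
    refine Submodule.span_induction (p := fun x _ => ρ u x ∈ V1) ?_ ?_ ?_ ?_ hx
    · rintro _ ⟨u', rfl⟩
      refine Submodule.subset_span ⟨u * u', ?_⟩
      show ρ (u * u' : Q) v = ρ u (ρ u' v)
      rw [Subgroup.coe_mul, map_mul]; rfl
    · rw [map_zero]; exact V1.zero_mem
    · intro x y _ _ h1 h2; rw [map_add]; exact V1.add_mem h1 h2
    · intro a x _ h1; rw [map_smul]; exact V1.smul_mem a h1
  let ρ1 : Q →* Module.End k V1 :=
    { toFun := fun u => (ρ u).restrict (hV1 u)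
      map_one' := by ext x; simp
      map_mul' := fun a b => by ext x; simp }
  let ρd : Q →* Module.End k (Module.Dual k V1) :=
    { toFun := fun u => (ρ1 u⁻¹).dualMap
      map_one' := by ext φ x; simp
      map_mul' := fun a b => by
        ext φ x
        simp [LinearMap.dualMap_apply] }
  have hvV1 : v ∈ V1 := Submodule.subset_span ⟨1, by show ρ (1 : Q) v = v; rw [Subgroup.coe_one, map_one]; rfl⟩
  have hne : (⟨v, hvV1⟩ : V1) ≠ 0 := fun h => hv (congrArg Subtype.val h)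
  obtain ⟨φ0, hφ0⟩ : ∃ φ0 : Module.Dual k V1, φ0 ≠ 0 := by
    by_contra hcon
    push Not at hcon
    apply hne
    rw [← Module.forall_dual_apply_eq_zero_iff k]
    intro φ
    rw [hcon φ]; rfl
  obtain ⟨φ, -, hφ, hφfix⟩ := exists_fix hQ ρd hφ0
  have hφu : ∀ (u : Q) (hu : ρ u v ∈ V1), φ ⟨ρ u v, hu⟩ = φ ⟨v, hvV1⟩ := by
    intro u hu
    have h1 := congrArg (fun ψ : Module.Dual k V1 => ψ ⟨v, hvV1⟩) (hφfix u⁻¹)
    rw [← h1]
    show φ ⟨ρ u v, hu⟩ = φ (ρ1 (u⁻¹)⁻¹ ⟨v, hvV1⟩)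
    rw [inv_inv]
    rfl
  have hφv : φ ⟨v, hvV1⟩ ≠ 0 := by
    intro h1
    apply hφ
    ext ⟨x, hx⟩
    refine Submodule.span_induction (p := fun x hx => φ ⟨x, hx⟩ = (0 : Module.Dual k V1) ⟨x, hx⟩)
      ?_ ?_ ?_ ?_ hx
    · rintro _ ⟨u, rfl⟩
      rw [hφu, h1]; rfl
    · exact (map_zero φ).trans (map_zero _).symm
    · intro x y hx hy h1 h2
      have h3 : (⟨x + y, V1.add_mem hx hy⟩ : V1) = ⟨x, hx⟩ + ⟨y, hy⟩ := rfl
      rw [h3, map_add, h1, h2, ← map_add]
    · intro a x hx h1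
      have h3 : (⟨a • x, V1.smul_mem a hx⟩ : V1) = a • ⟨x, hx⟩ := rfl
      rw [h3, map_smul, h1, ← map_smul]
  -- the claim on the span
  have key : ∀ x ∈ Submodule.span k {x : V × (S → k) | ∃ u ∈ Q, x = (ρ u v, RR u c)},
      ∃ hx : x.1 ∈ V1, φ ⟨x.1, hx⟩ = x.2 1 * φ ⟨v, hvV1⟩ := by
    intro x hx
    refine Submodule.span_induction (p := fun x _ => ∃ hx : x.1 ∈ V1, φ ⟨x.1, hx⟩ = x.2 1 * φ ⟨v, hvV1⟩)
      ?_ ?_ ?_ ?_ hx
    · rintro _ ⟨u, hu, rfl⟩
      refine ⟨Submodule.subset_span ⟨⟨u, hu⟩, rfl⟩, ?_⟩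
      rw [hφu ⟨u, hu⟩]
      show _ = c (1 * u) * _
      rw [one_mul, hcQ u hu, one_mul]
    · refine ⟨V1.zero_mem, ?_⟩
      show φ 0 = 0 * _
      rw [map_zero, zero_mul]
    · rintro x y _ _ ⟨hx, h1⟩ ⟨hy, h2⟩
      refine ⟨V1.add_mem hx hy, ?_⟩
      have h3 : (⟨(x + y).1, V1.add_mem hx hy⟩ : V1) = ⟨x.1, hx⟩ + ⟨y.1, hy⟩ := rfl
      rw [h3, map_add, h1, h2]
      show _ = (x.2 1 + y.2 1) * _
      ring
    · rintro a x _ ⟨hx, h1⟩
      refine ⟨V1.smul_mem a hx, ?_⟩
      have h3 : (⟨(a • x).1, V1.smul_mem a hx⟩ : V1) = a • ⟨x.1, hx⟩ := rfl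
      rw [h3, map_smul, h1]
      show a * _ = (a * x.2 1) * _
      ring
  have hx : (∑ a ∈ s, β a • ((ρ (h * z a) v, RR (h * z a) c) : V × (S → k))) ∈
      Submodule.span k {x : V × (S → k) | ∃ u ∈ Q, x = (ρ u v, RR u c)} :=
    Submodule.sum_mem _ fun a _ => Submodule.smul_mem _ _ (hgen _)
  obtain ⟨hx1, h1⟩ := key _ hx
  have e1 : (∑ a ∈ s, β a • ((ρ (h * z a) v, RR (h * z a) c) : V × (S → k))).1 = 0 := by
    rw [Prod.fst_sum]
    have : ∀ a ∈ s, (β a • ((ρ (h * z a) v, RR (h * z a) c) : V × (S → k))).1 =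
        ρ h (β a • ρ (z a) v) := by
      intro a _
      rw [map_smul]
      show β a • ρ (h * z a) v = _
      rw [map_mul]; rfl
    rw [Finset.sum_congr rfl this, ← map_sum, h0, map_zero]
  have e2 : (∑ a ∈ s, β a • ((ρ (h * z a) v, RR (h * z a) c) : V × (S → k))).2 1 =
      ∑ a ∈ s, β a * c (h * z a) := by
    rw [Prod.snd_sum, Finset.sum_apply]
    refine Finset.sum_congr rfl fun a _ => ?_
    show β a * c (1 * (h * z a)) = _
    rw [one_mul]
  have h2 : φ ⟨(∑ a ∈ s, β a • ((ρ (h * z a) v, RR (h * z a) c) : V × (S → k))).1, hx1⟩ = 0 := by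
    rw [← map_zero φ]
    exact congrArg φ (Subtype.ext e1)
  rw [h2, e2] at h1
  exact (mul_eq_zero.1 h1.symm).resolve_right hφv

end Cfsg.Agent.H45.Uni
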