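import Cfsg.Agent.H45.Uni.Abs

/-!
# Theorem (U), abstract part: Curtis' lemma

* `Dat.K_le` : the functions in `L` killed by all `X i 1` are the multiples of `c`;
* `Dat.fix_le` : the functions in `L` fixed by all `x i 1` are the multiples of `c`.
-/

set_option autoImplicit false
set_option linter.unusedSectionVars false

namespace Cfsg.Agent.H45.Uni

open Polynomial Finset

namespace Dat

variable {p : ℕ} {ι k G : Type*} [Field k] [Group G] [Infinite k] (D : Dat p ι k G)

theorem exists_nodes (k : Type*) [Field k] [Infinite k] (n : ℕ) : ∃ S : Finset k, S.card = n ∧ (0 : k) ∉ S := by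
  have h1 : Set.Infinite ({(0 : k)}ᶜ : Set k) := (Set.finite_singleton (0 : k)).infinite_compl
  obtain ⟨S, hS, hc⟩ := h1.exists_subset_card_eq n
  exact ⟨S, hc, fun h => hS h rfl⟩

/-- nodes for the interpolation -/
noncomputable def nodes (k : Type*) [Field k] [Infinite k] (n : ℕ) : Finset k := (exists_nodes k n).choose

theorem nodes_card (n : ℕ) : (nodes k n).card = n := (exists_nodes k n).choose_spec.1
theorem nodes_zero (n : ℕ) : (0 : k) ∉ nodes k n := (exists_nodes k n).choose_spec.2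

/-- `X i n F` : the coefficient of `s ^ n` in `x i s F` -/
noncomputable def X (i : ι) (n : ℕ) : (G → k) →ₗ[k] (G → k) :=
  op (nodes k (D.N + 1)) (fun _ => 1) (D.x i) n

open Classical in
/-- `δ`, as a function on `k` -/
noncomputable def dl (a : k) : G := if h : a ≠ 0 then D.δ (Units.mk0 a h) else 1

/-- the components for `δ` -/
noncomputable def H (n : ℕ) : (G → k) →ₗ[k] (G → k) :=
  op (nodes k (D.N + 1)) (fun a => a ^ D.M) D.dl n

theorem pol_ext {P Q : k[X]} (h : ∀ s : kˣ, P.eval (s : k) = Q.eval (s : k)) : P = Q := by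
  apply Polynomial.eq_of_infinite_eval_eq
  apply Set.Infinite.mono (s := ({(0 : k)}ᶜ : Set k))
  · intro s hs
    exact h (Units.mk0 s hs)
  · exact (Set.finite_singleton (0 : k)).infinite_compl

theorem X_apply {F : G → k} (hF : F ∈ D.L) (i : ι) (n : ℕ) {g : G} {P : k[X]}
    (h : ∀ s, F (g * D.x i s) = P.eval s) : D.X i n F g = P.coeff n := by
  obtain ⟨P', hP', h'⟩ := D.L_pol_x hF i g
  have : P = P' := pol_ext fun s => by rw [← h, ← h']
  subst this
  refine op_apply ?_ fun a _ => ?_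
  · rw [nodes_card]
    refine (degree_le_natDegree).trans_lt ?_
    exact_mod_cast Nat.lt_succ_of_le hP'
  · rw [one_mul, h]

theorem H_apply {F : G → k} (hF : F ∈ D.L) (n : ℕ) {g : G} {P : k[X]}
    (h : ∀ s : kˣ, (s : k) ^ D.M * F (g * D.δ s) = P.eval (s : k)) : D.H n F g = P.coeff n := by
  obtain ⟨P', hP', h'⟩ := D.L_pol_δ hF g
  have : P = P' := pol_ext fun s => by rw [← h, ← h']
  subst this
  refine op_apply ?_ fun a ha => ?_
  · rw [nodes_card]
    refine (degree_le_natDegree).trans_lt ?_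
    exact_mod_cast Nat.lt_succ_of_le hP'
  · have ha0 : a ≠ 0 := by rintro rfl; exact nodes_zero _ ha
    have h1 := h (Units.mk0 a ha0)
    rw [Units.val_mk0] at h1
    rw [← h1]
    unfold dl
    rw [dif_pos ha0]

theorem X_mem (i : ι) (n : ℕ) {F : G → k} (hF : F ∈ D.L) : D.X i n F ∈ D.L :=
  op_mem (fun _ _ _ h => D.RR_mem _ h) n hF

theorem H_mem (n : ℕ) {F : G → k} (hF : F ∈ D.L) : D.H n F ∈ D.L :=
  op_mem (fun _ _ _ h => D.RR_mem _ h) n hF

theorem expand_x {F : G → k} (hF : F ∈ D.L) (i : ι) (g : G) (s : k) :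
    F (g * D.x i s) = ∑ n ∈ range (D.N + 1), D.X i n F g * s ^ n := by
  obtain ⟨P, hP, h⟩ := D.L_pol_x hF i g
  rw [h, eval_eq_sum_range' (Nat.lt_succ_of_le hP)]
  exact Finset.sum_congr rfl fun n _ => by rw [D.X_apply hF i n h]

theorem expand_δ {F : G → k} (hF : F ∈ D.L) (g : G) (s : kˣ) :
    (s : k) ^ D.M * F (g * D.δ s) = ∑ n ∈ range (D.N + 1), D.H n F g * (s : k) ^ n := by
  obtain ⟨P, hP, h⟩ := D.L_pol_δ hF g
  rw [h, eval_eq_sum_range' (Nat.lt_succ_of_le hP)]
  exact Finset.sum_congr rfl fun n _ => by rw [D.H_apply hF n h]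

theorem X_zero {F : G → k} (hF : F ∈ D.L) (i : ι) : D.X i 0 F = F := by
  funext g
  obtain ⟨P, hP, h⟩ := D.L_pol_x hF i g
  rw [D.X_apply hF i 0 h, coeff_zero_eq_eval_zero, ← h, D.x_zero, mul_one]

theorem δ_one : D.δ 1 = 1 := by
  have h := D.δ_mul 1 1
  rw [mul_one] at h
  exact (mul_eq_left.1 h.symm)

theorem sum_H {F : G → k} (hF : F ∈ D.L) : ∑ n ∈ range (D.N + 1), D.H n F = F := by
  funext g
  have h := D.expand_δ hF g 1
  rw [D.δ_one, mul_one, Units.val_one, one_pow, one_mul] at h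
  rw [Finset.sum_apply, h]
  exact Finset.sum_congr rfl fun n _ => by rw [one_pow, mul_one]

/-- homogeneous functions -/
def Hom (h : ℤ) (F : G → k) : Prop := ∀ (s : kˣ) (g : G), F (g * D.δ s) = ((s ^ h : kˣ) : k) * F g

theorem hom_H (n : ℕ) {F : G → k} (hF : F ∈ D.L) : D.Hom ((n : ℤ) - D.M) (D.H n F) := by
  intro s g
  obtain ⟨P, hP, h⟩ := D.L_pol_δ hF g
  have h2 : ∀ u : kˣ, (u : k) ^ D.M * F (g * D.δ s * D.δ u) =
      (C ((s : k)⁻¹ ^ D.M) * P.comp (C (s : k) * Polynomial.X)).eval (u : k) := by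
    intro u
    have h1 := h (s * u)
    rw [D.δ_mul, ← mul_assoc, Units.val_mul, mul_pow] at h1
    have hs : (s : k) ≠ 0 := s.ne_zero
    rw [eval_mul, eval_C, eval_comp, eval_mul, eval_C, eval_X, ← h1, inv_pow, mul_assoc ((s : k) ^ D.M),
      inv_mul_cancel_left₀ (pow_ne_zero _ hs)]
  rw [D.H_apply hF n h2, D.H_apply hF n h, coeff_C_mul, comp_C_mul_X_coeff]
  rw [zpow_sub, zpow_natCast, zpow_natCast, Units.val_mul, Units.val_pow_eq_pow_val,
    Units.val_inv_eq_inv_val, Units.val_pow_eq_pow_val, inv_pow]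
  ring

theorem H_of_hom {h : ℤ} {F : G → k} (hF : F ∈ D.L) (hh : D.Hom h F) (n : ℕ) (hn : (n : ℤ) - D.M ≠ h) :
    D.H n F = 0 := by
  funext g
  by_cases hg : F g = 0
  · have h2 : ∀ u : kˣ, (u : k) ^ D.M * F (g * D.δ u) = (0 : k[X]).eval (u : k) := by
      intro u
      rw [hh, hg, mul_zero, mul_zero, eval_zero]
    rw [D.H_apply hF n h2, coeff_zero]
    rfl
  obtain ⟨P, hP, h1⟩ := D.L_pol_δ hF g
  rw [D.H_apply hF n h1]
  -- `P (s) = s ^ (M + h) F g`
  have h2 : ∀ s : kˣ, P.eval (s : k) = ((s ^ (h + D.M) : kˣ) : k) * F g := by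
    intro s
    rw [← h1, hh, zpow_add, Units.val_mul, zpow_natCast, Units.val_pow_eq_pow_val]
    ring
  by_cases h3 : 0 ≤ h + D.M
  · obtain ⟨e, he⟩ := Int.eq_ofNat_of_zero_le h3
    have h4 : P = C (F g) * Polynomial.X ^ e := pol_ext fun s => by
      rw [h2, he, zpow_natCast, Units.val_pow_eq_pow_val, eval_mul, eval_C, eval_pow, eval_X]
      ring
    rw [h4, coeff_C_mul, coeff_X_pow, if_neg (by rintro rfl; exact hn (by omega)), mul_zero]
    rfl
  · -- negative exponent
    exfalso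
    obtain ⟨e, he⟩ := Int.eq_ofNat_of_zero_le (show 0 ≤ -(h + D.M) by omega)
    have h4 : P * Polynomial.X ^ e = C (F g) := pol_ext fun s => by
      rw [eval_mul, h2, eval_pow, eval_X, eval_C]
      have h5 : h + D.M = -(e : ℤ) := by omega
      rw [h5, zpow_neg, zpow_natCast, Units.val_inv_eq_inv_val, Units.val_pow_eq_pow_val]
      have hs : (s : k) ≠ 0 := s.ne_zero
      field_simp
    have h5 := congrArg (fun P : k[X] => P.coeff 0) h4
    simp only [coeff_C_zero, coeff_mul_X_pow'] at h5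
    rw [if_neg (by omega)] at h5
    exact hg h5.symm

/-- nonzero homogeneous functions in `L` have degree `n - M` with `n ≤ N` -/
theorem hom_range {h : ℤ} {F : G → k} (hF : F ∈ D.L) (hh : D.Hom h F) (h0 : F ≠ 0) :
    ∃ n ≤ D.N, h = (n : ℤ) - D.M := by
  by_contra hcon
  push Not at hcon
  apply h0
  rw [← D.sum_H hF]
  refine Finset.sum_eq_zero fun n hn => ?_
  exact D.H_of_hom hF hh n (fun h1 => hcon n (by rw [Finset.mem_range] at hn; omega) h1.symm)

theorem H_self {n : ℕ} {F : G → k} (hF : F ∈ D.L) (hh : D.Hom ((n : ℤ) - D.M) F) (hn : n ≤ D.N) :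
    D.H n F = F := by
  conv_rhs => rw [← D.sum_H hF]
  rw [Finset.sum_eq_single n]
  · intro m _ hm
    exact D.H_of_hom hF hh m (by omega)
  · intro h1
    exact absurd (Finset.mem_range.2 (by omega)) h1

theorem hom_X {h : ℤ} {F : G → k} (hF : F ∈ D.L) (hh : D.Hom h F) (i : ι) (n : ℕ) :
    D.Hom (h + n) (D.X i n F) := by
  intro s g
  obtain ⟨P, hP, h1⟩ := D.L_pol_x hF i g
  have h2 : ∀ u : k, F (g * D.δ s * D.x i u) =
      (C ((s ^ h : kˣ) : k) * P.comp (C (s : k) * Polynomial.X)).eval u := by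
    intro u
    rw [mul_assoc, D.δ_x, ← mul_assoc, hh, h1, eval_mul, eval_C, eval_comp, eval_mul, eval_C, eval_X]
  rw [D.X_apply hF i n h2, D.X_apply hF i n h1, coeff_C_mul, comp_C_mul_X_coeff, zpow_add,
    zpow_natCast, Units.val_mul, Units.val_pow_eq_pow_val]
  ring

/-! ### Curtis' lemma -/

/-- the functions killed by all `X i 1` -/
noncomputable def K : Submodule k (G → k) := D.L ⊓ ⨅ i, LinearMap.ker (D.X i 1)

theorem mem_K {F : G → k} : F ∈ D.K ↔ F ∈ D.L ∧ ∀ i, D.X i 1 F = 0 := by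
  unfold K
  rw [Submodule.mem_inf, Submodule.mem_iInf]
  rfl

variable [Fact p.Prime] [CharP k p]

theorem K_X {F : G → k} (hF : F ∈ D.K) (i : ι) {n : ℕ} (h0 : 0 < n) (hn : n < p) : D.X i n F = 0 := by
  obtain ⟨hF, hK⟩ := D.mem_K.1 hF
  funext g
  obtain ⟨P, hP, h⟩ := D.L_pol_x hF i g
  rw [D.X_apply hF i n h]
  have h1 : derivative P = 0 := by
    apply pol_ext
    intro s
    rw [eval_zero, ← taylor_coeff_one]
    have h2 : ∀ u : k, F (g * D.x i s * D.x i u) = (taylor (s : k) P).eval u := by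
      intro u
      rw [mul_assoc, ← D.x_add, h, taylor_eval, add_comm]
    rw [← D.X_apply hF i 1 h2, hK i]
    rfl
  have h2 := congrArg (fun P : k[X] => P.coeff (n - 1)) h1
  simp only [coeff_derivative, coeff_zero] at h2
  have h3 : n - 1 + 1 = n := by omega
  rw [h3] at h2
  rcases mul_eq_zero.1 h2 with h4 | h4
  · rw [h4]; rfl
  · exfalso
    have h5 : ((n : ℕ) : k) = 0 := by
      have : (((n - 1 : ℕ) : k) + 1) = ((n - 1 + 1 : ℕ) : k) := by push_cast; ring
      rw [this, h3] at h4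
      exact h4
    rw [CharP.cast_eq_zero_iff k p] at h5
    exact absurd (Nat.le_of_dvd h0 h5) (by omega)

theorem K_RR_x {F : G → k} (hF : F ∈ D.K) (i : ι) (s : k) : RR (D.x i s) F ∈ D.K := by
  have hp : 0 < p := (Fact.out : p.Prime).pos
  have hFL := (D.mem_K.1 hF).1
  rw [mem_K]
  refine ⟨D.RR_mem _ hFL, fun j => ?_⟩
  -- for every `g'`, the coefficient of `t` in `F (g' x_i(-s) x_j(t) x_i(s))` is zero
  have key : ∀ (g' : G) (s : k), D.X j 1 (RR (D.x i s) F) (g' * D.x i (-s)) = 0 := by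
    intro g'
    obtain ⟨P, hP, h⟩ := D.L_pair hFL hp i j g'
    have h1 : ∀ s, D.X j 1 (RR (D.x i s) F) (g' * D.x i (-s)) = (P.coeff 1).eval s := by
      intro s
      have h2 : ∀ t : k, (RR (D.x i s) F) (g' * D.x i (-s) * D.x j t) = (P.map (evalRingHom s)).eval t :=
        fun t => h s t
      rw [D.X_apply (D.RR_mem _ hFL) j 1 h2, coeff_map]
      rfl
    -- the other expression
    choose q hqN hq using fun n : ℕ => D.L_pol_x (D.X_mem j 1 (D.X_mem i n hFL)) i g'
    have h3 : ∀ s, D.X j 1 (RR (D.x i s) F) (g' * D.x i (-s)) =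
        (Polynomial.X ^ p * ∑ n ∈ range (D.N + 1), (if p ≤ n then
          Polynomial.X ^ (n - p) * (q n).comp (-Polynomial.X) else 0)).eval s := by
      intro s
      have h4 : RR (D.x i s) F = F + ∑ n ∈ range (D.N + 1), (if p ≤ n then s ^ n • D.X i n F else 0) := by
        funext g
        rw [RR_apply, D.expand_x hFL, Finset.sum_range_succ', pow_zero, mul_one, D.X_zero hFL, Pi.add_apply,
          Finset.sum_apply, Finset.sum_range_succ', if_neg (by omega), Pi.zero_apply, add_zero, add_comm]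
        congr 1
        refine Finset.sum_congr rfl fun n _ => ?_
        by_cases hn : p ≤ n + 1
        · rw [if_pos hn, Pi.smul_apply, smul_eq_mul, mul_comm]
        · rw [if_neg hn, D.K_X hF i (Nat.succ_pos n) (by omega)]
          simp
      rw [h4, map_add, (D.mem_K.1 hF).2 j, zero_add, map_sum, Finset.sum_apply, eval_mul, eval_finsetSum,
        Finset.mul_sum]
      refine Finset.sum_congr rfl fun n _ => ?_
      by_cases hn : p ≤ n
      · rw [if_pos hn, if_pos hn, map_smul, Pi.smul_apply, hq, eval_mul, eval_pow, eval_pow, eval_X,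
          eval_comp, eval_neg, eval_X, smul_eq_mul, ← mul_assoc, ← pow_add]
        congr 2
        omega
      · rw [if_neg hn, if_neg hn, map_zero, eval_zero, mul_zero]
        rfl
    have h4 : P.coeff 1 = Polynomial.X ^ p * ∑ n ∈ range (D.N + 1), (if p ≤ n then
          Polynomial.X ^ (n - p) * (q n).comp (-Polynomial.X) else 0) := pol_ext fun s => by
      rw [← h1, ← h3]
    have h5 : P.coeff 1 = 0 := by
      by_contra h6
      have h7 : (∑ n ∈ range (D.N + 1), (if p ≤ n then
          Polynomial.X ^ (n - p) * (q n).comp (-Polynomial.X) else 0) : k[X]) ≠ 0 := by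
        intro h8
        rw [h8, mul_zero] at h4
        exact h6 h4
      have h8 := natDegree_mul (pow_ne_zero p (Polynomial.X_ne_zero (R := k))) h7
      rw [← h4, natDegree_X_pow] at h8
      omega
    intro s
    rw [h1, h5, eval_zero]
  funext g
  have h1 := key (g * D.x i s) s
  rw [mul_assoc, ← D.x_add, add_neg_cancel, D.x_zero, mul_one] at h1
  exact h1

theorem K_X_mem {F : G → k} (hF : F ∈ D.K) (i : ι) (n : ℕ) : D.X i n F ∈ D.K :=
  op_mem (fun _ _ _ h => D.K_RR_x h _ _) n hF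

theorem K_RR_δ {F : G → k} (hF : F ∈ D.K) (s : kˣ) : RR (D.δ s) F ∈ D.K := by
  have hFL := (D.mem_K.1 hF).1
  rw [mem_K]
  refine ⟨D.RR_mem _ hFL, fun i => ?_⟩
  funext g
  obtain ⟨P, hP, h⟩ := D.L_pol_x hFL i (g * D.δ s)
  have h2 : ∀ u : k, (RR (D.δ s) F) (g * D.x i u) = (P.comp (C ((s⁻¹ : kˣ) : k) * Polynomial.X)).eval u := by
    intro u
    rw [RR_apply, eval_comp, eval_mul, eval_C, eval_X, ← h, mul_assoc, mul_assoc, D.δ_x, ← mul_assoc (s : k),
      ← Units.val_mul, mul_inv_cancel, Units.val_one, one_mul]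
  rw [D.X_apply (D.RR_mem _ hFL) i 1 h2, comp_C_mul_X_coeff, ← D.X_apply hFL i 1 h, (D.mem_K.1 hF).2 i]
  simp

theorem K_H_mem {F : G → k} (hF : F ∈ D.K) (n : ℕ) : D.H n F ∈ D.K := by
  classical
  refine op_mem (fun a ha _ h => ?_) n hF
  have ha0 : a ≠ 0 := by rintro rfl; exact nodes_zero _ ha
  unfold dl
  rw [dif_pos ha0]
  exact D.K_RR_δ h _

/-- a function in `L` fixed by `U⁺` is a multiple of `c` -/
theorem top {F : G → k} (hF : F ∈ D.L) (h : ∀ i s g, F (g * D.x i s) = F g) : F = F 1 • D.c := by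
  have hU : ∀ {F : G → k}, (∀ i s g, F (g * D.x i s) = F g) → ∀ u ∈ D.U, ∀ g, F (g * u) = F g := by
    intro F h u hu
    induction hu using Subgroup.closure_induction with
    | mem u hu => obtain ⟨i, s, rfl⟩ := hu; exact h i s
    | one => intro g; rw [mul_one]
    | mul u v _ _ h1 h2 => intro g; rw [← mul_assoc, h2, h1]
    | inv u _ h1 => intro g; rw [← h1 (g * u⁻¹), inv_mul_cancel_right]
  have h1 : F - F 1 • D.c = 0 := by
    apply D.dens (D.L.sub_mem hF (D.L.smul_mem _ D.c_mem))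
    intro t ht u hu
    have h2 := hU h u hu t
    have h3 := hU (fun i s g => D.c_x g i s) u hu t
    rw [Pi.sub_apply, Pi.smul_apply, h2, h3]
    have h4 := D.L_T hF ht 1
    rw [mul_one] at h4
    rw [h4, smul_eq_mul]
    ring
  exact sub_eq_zero.1 h1

/-- **Curtis' lemma**, homogeneous form -/
theorem K_hom {h : ℤ} {F : G → k} (hF : F ∈ D.K) (hh : D.Hom h F) : F = F 1 • D.c := by
  have hp : 0 < p := (Fact.out : p.Prime).pos
  -- downward induction on `h`
  have key : ∀ (d : ℕ) (h : ℤ) (F : G → k), F ∈ D.K → D.Hom h F → (D.N : ℤ) - D.M < h + d → F = F 1 • D.c := by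
    intro d
    induction d with
    | zero =>
      intro h F hF hh hd
      have hFL := (D.mem_K.1 hF).1
      by_cases h0 : F = 0
      · rw [h0]; simp
      · obtain ⟨n, hn, h1⟩ := D.hom_range hFL hh h0
        push_cast at hd
        omega
    | succ d ih =>
      intro h F hF hh hd
      have hFL := (D.mem_K.1 hF).1
      apply D.top hFL
      intro i s g
      -- the coefficients
      have h1 : ∀ n, 0 < n → D.X i n F = (D.X i n F) 1 • D.c := by
        intro n hn
        apply ih (h + n) (D.X i n F) (D.K_X_mem hF i n) (D.hom_X hFL hh i n)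
        push_cast at hd
        omega
      have h2 : ∀ n, 0 < n → D.X i n F 1 = 0 := by
        intro n hn
        by_cases hnp : n < p
        · rw [D.K_X hF i hn hnp]; rfl
        · obtain ⟨P, hP, h3⟩ := D.L_deg hFL hp i
          have h4 : ∀ s, F (1 * D.x i s) = P.eval s := fun s => by rw [one_mul, h3]
          rw [D.X_apply hFL i n h4]
          exact coeff_eq_zero_of_natDegree_lt (by omega)
      rw [D.expand_x hFL, Finset.sum_range_succ', Finset.sum_eq_zero, zero_add, pow_zero, mul_one, D.X_zero hFL]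
      intro n _
      rw [h1 (n + 1) (Nat.succ_pos n), h2 (n + 1) (Nat.succ_pos n)]
      simp
  exact key ((D.N : ℤ) - D.M - h + 1).toNat h F hF hh (by omega)

/-- **Curtis' lemma** -/
theorem K_le {F : G → k} (hF : F ∈ D.K) : ∃ a : k, F = a • D.c := by
  have hFL := (D.mem_K.1 hF).1
  refine ⟨∑ n ∈ range (D.N + 1), D.H n F 1, ?_⟩
  conv_lhs => rw [← D.sum_H hFL]
  rw [Finset.sum_smul]
  exact Finset.sum_congr rfl fun n _ => D.K_hom (D.K_H_mem hF n) (D.hom_H n hFL)

/-! ### functions fixed by the `x i 1` -/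

theorem low {F : G → k} (hF : F ∈ D.L) (h1 : ∀ i g, F (g * D.x i 1) = F g) {n : ℕ}
    (hlow : ∀ m < n, D.H m F = 0) : D.H n F ∈ D.K := by
  rw [mem_K]
  refine ⟨D.H_mem n hF, fun i => ?_⟩
  funext g
  have hs : ∀ s : kˣ, ∀ g, F (g * D.x i (s : k) * D.δ s) = F (g * D.δ s) := by
    intro s g
    have h2 := D.δ_x s i 1
    rw [mul_one] at h2
    rw [mul_assoc, ← h2, ← mul_assoc, h1]
  -- polynomial identity
  choose q hqN hq using fun m : ℕ => D.L_pol_x (D.H_mem m hF) i g
  have h3 : (∑ m ∈ range (D.N + 1), q m * Polynomial.X ^ m : k[X]) =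
      ∑ m ∈ range (D.N + 1), C (D.H m F g) * Polynomial.X ^ m := pol_ext fun s => by
    rw [eval_finsetSum, eval_finsetSum]
    have h4 := D.expand_δ hF (g * D.x i (s : k)) s
    have h5 := D.expand_δ hF g s
    rw [hs] at h4
    rw [h5] at h4
    simp only [eval_mul, eval_C, eval_pow, eval_X]
    rw [h4]
    exact Finset.sum_congr rfl fun m _ => by rw [hq]
  by_cases hn : n ≤ D.N
  · have h4 := congrArg (fun P : k[X] => P.coeff (n + 1)) h3
    simp only [finsetSum_coeff] at h4
    rw [Finset.sum_congr rfl (fun m _ => coeff_mul_X_pow' (q m) m (n + 1)),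
      Finset.sum_congr rfl (fun m _ => by rw [coeff_C_mul, coeff_X_pow] :
        ∀ m ∈ range (D.N + 1), (C (D.H m F g) * Polynomial.X ^ m : k[X]).coeff (n + 1) =
          D.H m F g * if n + 1 = m then 1 else 0)] at h4
    have hq0 : ∀ m < n, q m = 0 := by
      intro m hm
      apply pol_ext
      intro s
      rw [← hq, hlow m hm]
      simp
    have hc0 : ∀ m, (q m).coeff 0 = D.H m F g := by
      intro m
      rw [← D.X_apply (D.H_mem m hF) i 0 (hq m), D.X_zero (D.H_mem m hF)]
    have h5 : ∀ m ∈ range (D.N + 1), (if m ≤ n + 1 then (q m).coeff (n + 1 - m) else 0) =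
        (if m = n then (q n).coeff 1 else 0) + (D.H m F g * if n + 1 = m then 1 else 0) := by
      intro m _
      rcases lt_trichotomy m n with hm | rfl | hm
      · rw [if_pos (by omega), if_neg (by omega), if_neg (by omega), hq0 m hm]
        simp
      · rw [if_pos (by omega), if_pos rfl, if_neg (by omega)]
        have : m + 1 - m = 1 := by omega
        rw [this]; simp
      · rw [if_neg (by omega : ¬ m = n)]
        by_cases h6 : m = n + 1
        · subst h6
          rw [if_pos le_rfl, if_pos rfl, Nat.sub_self, hc0]; simp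
        · rw [if_neg (by omega), if_neg (by omega)]; simp
    rw [Finset.sum_congr rfl h5, Finset.sum_add_distrib] at h4
    rw [D.X_apply (D.H_mem n hF) i 1 (hq n)]
    have h6 := add_eq_right.1 h4
    rw [Finset.sum_ite_eq', if_pos (Finset.mem_range.2 (by omega))] at h6
    rw [h6]; rfl
  · have h0 : D.H n F = 0 := by
      funext g
      obtain ⟨P, hP, h⟩ := D.L_pol_δ hF g
      rw [D.H_apply hF n h]
      exact coeff_eq_zero_of_natDegree_lt (by omega)
    rw [h0, map_zero]

theorem hom_c : D.Hom D.wt D.c := fun s g => D.c_δ g s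

/-- **functions in `L` fixed by all `x i 1` are multiples of `c`** -/
theorem fix_le {F : G → k} (hF : F ∈ D.L) (h1 : ∀ i g, F (g * D.x i 1) = F g) : ∃ a : k, F = a • D.c := by
  -- the lowest component of a nonzero such function has degree `wt`
  have key : ∀ {F : G → k}, F ∈ D.L → (∀ i g, F (g * D.x i 1) = F g) → F ≠ 0 →
      ∃ n ≤ D.N, (∀ m < n, D.H m F = 0) ∧ D.H n F ≠ 0 ∧ (n : ℤ) - D.M = D.wt ∧ ∃ a : k, D.H n F = a • D.c := by
    classical
    intro F hF h1 h0
    have hex : ∃ n, D.H n F ≠ 0 := by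
      by_contra hcon
      push Not at hcon
      apply h0
      rw [← D.sum_H hF]
      exact Finset.sum_eq_zero fun n _ => hcon n
    let n := Nat.find hex
    have hn : D.H n F ≠ 0 := Nat.find_spec hex
    have hlow : ∀ m < n, D.H m F = 0 := fun m hm => by
      by_contra h; exact Nat.find_min hex hm h
    have hK := D.low hF h1 hlow
    obtain ⟨a, ha⟩ := D.K_le hK
    have hwt : (n : ℤ) - D.M = D.wt := by
      have h2 := D.hom_H n hF
      obtain ⟨m, hm, h3⟩ := D.hom_range (D.H_mem n hF) h2 hn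
      by_contra hne
      -- `c` is homogeneous of degree `wt`
      have h4 : D.Hom D.wt (D.H n F) := by
        intro s g
        rw [ha, Pi.smul_apply, Pi.smul_apply, D.c_δ, smul_eq_mul, smul_eq_mul]
        ring
      have h5 := D.H_of_hom (D.H_mem n hF) h4 n hne
      have h6 := D.H_self (D.H_mem n hF) h2 (by omega)
      rw [h5] at h6
      exact hn h6.symm
    obtain ⟨m, hm, h3⟩ := D.hom_range (D.H_mem n hF) (D.hom_H n hF) hn
    exact ⟨n, by omega, hlow, hn, hwt, a, ha⟩
  by_cases h0 : F = 0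
  · exact ⟨0, by rw [h0, zero_smul]⟩
  obtain ⟨n, hnN, hlow, hn, hwt, a, ha⟩ := key hF h1 h0
  refine ⟨a, ?_⟩
  by_contra hne
  have hF' : F - a • D.c ∈ D.L := D.L.sub_mem hF (D.L.smul_mem _ D.c_mem)
  obtain ⟨n', hnN', hlow', hn', hwt', a', ha'⟩ := key hF'
    (fun i g => by rw [Pi.sub_apply, Pi.sub_apply, Pi.smul_apply, Pi.smul_apply, h1, D.c_x])
    (sub_ne_zero.2 hne)
  have : n' = n := by omega
  subst this
  apply hn'
  rw [map_sub, ← ha, D.H_self (D.H_mem _ hF) (D.hom_H _ hF) hnN, sub_self]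

end Dat

end Cfsg.Agent.H45.Uni
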