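import Mathlib
import Cfsg.Agent.LieClassical.OrthFinite
import Cfsg.Agent.LieClassical.OmegaReindex

/-!
# Theorem (U): interface

`Ω_{2m+1}`: basis `e i, f i (i : Fin m), z`, the form `quadOdd m k` (`Q z = 1`, `polar (e i) (f i) = 1`), the group
`G = E (quadOdd m k)` generated by all Siegel elements. Simple root elements `xr i s`, `yr i s`, diagonal elements
`tor t`, the involution `ww` (swaps `e i` and `f i`), leading minors `mnr j g` and the matrix coefficient
`cc n g = ∏ j, mnr j g ^ n j`.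

The `Prop`s at the end are the statements which the parts have to prove.
-/

set_option autoImplicit false
set_option linter.unusedSimpArgs false

namespace Cfsg.Agent.H45.Uni

open QuadraticMap Cfsg.Agent.LieClassical.OrthCore Cfsg.Agent.LieClassical.OmegaReindex
  Cfsg.Agent.LieClassical.OrthFinite

/-- the index type `z, e_i, f_i` -/
abbrev Ix (m : ℕ) : Type := Unit ⊕ (Fin m ⊕ Fin m)

variable {m : ℕ} {k : Type*} [Field k]

/-- basis vectors -/
def ve (i : Fin m) : Ix m → k := Pi.single (.inr (.inl i)) 1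
def vf (i : Fin m) : Ix m → k := Pi.single (.inr (.inr i)) 1
def vz : Ix m → k := Pi.single (.inl ()) 1

/-- `f (i+1)`, and `z` for the last `i` -/
def nb (i : Fin m) : Ix m → k := if h : i.1 + 1 < m then vf ⟨i.1 + 1, h⟩ else vz
/-- `e (i+1)`, and `z` for the last `i` -/
def nb' (i : Fin m) : Ix m → k := if h : i.1 + 1 < m then ve ⟨i.1 + 1, h⟩ else vz

/-! ### the form on basis vectors -/

theorem polar_ve (i : Fin m) (v : Ix m → k) : polar (quadOdd m k) (ve i) v = v (.inr (.inr i)) := by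
  rw [polar_quadOdd]
  simp [ve, Pi.single_apply, Finset.sum_add_distrib]

theorem polar_vf (i : Fin m) (v : Ix m → k) : polar (quadOdd m k) (vf i) v = v (.inr (.inl i)) := by
  rw [polar_quadOdd]
  simp [vf, Pi.single_apply, Finset.sum_add_distrib]

theorem polar_vz (v : Ix m → k) : polar (quadOdd m k) vz v = 2 * v (.inl ()) := by
  rw [polar_quadOdd]
  simp [vz, Pi.single_apply]

theorem Q_apply (v : Ix m → k) : quadOdd m k v =
    v (.inl ()) ^ 2 + ∑ i : Fin m, v (.inr (.inl i)) * v (.inr (.inr i)) := by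
  rw [coe_quadOdd]; rfl

theorem Q_ve (i : Fin m) : quadOdd m k (ve i) = 0 := by
  rw [Q_apply]; simp [ve, Pi.single_apply]

theorem Q_vf (i : Fin m) : quadOdd m k (vf i) = 0 := by
  rw [Q_apply]; simp [vf, Pi.single_apply]

theorem Q_vz : quadOdd m k vz = 1 := by
  rw [Q_apply]; simp [vz, Pi.single_apply]

theorem ve_perp (i : Fin m) (s : k) : polar (quadOdd m k) (ve i) (s • nb i) = 0 := by
  rw [polar_ve]
  unfold nb
  split_ifs with h
  · simp [vf, Pi.single_apply, Fin.ext_iff]
  · simp [vz, Pi.single_apply]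

theorem vf_perp (i : Fin m) (s : k) : polar (quadOdd m k) (vf i) (s • nb' i) = 0 := by
  rw [polar_vf]
  unfold nb'
  split_ifs with h
  · simp [ve, Pi.single_apply, Fin.ext_iff]
  · simp [vz, Pi.single_apply]

/-! ### simple root elements, torus, the involution -/

/-- the group `G(k)` -/
abbrev GG (m : ℕ) (k : Type*) [Field k] : Subgroup ((Ix m → k) ≃ₗ[k] (Ix m → k)) := E (quadOdd m k)

/-- positive simple root element -/
def xr (i : Fin m) (s : k) : GG m k :=
  ⟨siegel (quadOdd m k) (ve i) (s • nb i) (Q_ve i) (ve_perp i s), siegel_mem_E _ _⟩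

/-- negative simple root element; see `yr_eq` : `yr i s = ww (xr i s)⁻¹ ww` -/
def yr (i : Fin m) (s : k) : GG m k :=
  ⟨siegel (quadOdd m k) (vf i) ((-s) • nb' i) (Q_vf i) (vf_perp i (-s)), siegel_mem_E _ _⟩

/-- the diagonal coefficients of `tor` -/
def torVec (t : Fin m → kˣ) : Ix m → kˣ
  | .inl _ => 1
  | .inr (.inl i) => t i
  | .inr (.inr i) => (t i)⁻¹

/-- the diagonal element `e i ↦ t i • e i`, `f i ↦ (t i)⁻¹ • f i`, `z ↦ z` -/
def tor (t : Fin m → kˣ) : (Ix m → k) ≃ₗ[k] (Ix m → k) :=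
  LinearEquiv.piCongrRight fun j => LinearEquiv.smulOfUnit (torVec t j)

theorem tor_apply (t : Fin m → kˣ) (v : Ix m → k) (j : Ix m) : tor t v j = torVec t j * v j := rfl

/-- the coroot of the `i`th simple root: `t i = c, t (i+1) = c⁻¹`, and `t i = c ^ 2` for the last `i` -/
def hvec (i : Fin m) (c : kˣ) : Fin m → kˣ := fun j =>
  if i.1 + 1 < m then (if j = i then c else if j.1 = i.1 + 1 then c⁻¹ else 1)
  else (if j = i then c ^ 2 else 1)

/-- the value of the `i`th simple root at `tor t` -/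
def rt (i : Fin m) (t : Fin m → kˣ) : kˣ :=
  if h : i.1 + 1 < m then t i * (t ⟨i.1 + 1, h⟩)⁻¹ else t i

/-- the isometry which swaps `e i` and `f i` -/
def ww (m : ℕ) (k : Type*) [Field k] : (Ix m → k) ≃ₗ[k] (Ix m → k) :=
  LinearEquiv.funCongrLeft k k (Equiv.sumCongr (Equiv.refl Unit) (Equiv.sumComm (Fin m) (Fin m)))

/-! ### minors -/

/-- the `(j+1)`st leading minor of `g` (in the basis `e i`) -/
def mnr (j : Fin m) (g : (Ix m → k) ≃ₗ[k] (Ix m → k)) : k :=
  Matrix.det (Matrix.of fun a b : Fin (j.1 + 1) =>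
    g (ve (Fin.castLE j.2 b)) (.inr (.inl (Fin.castLE j.2 a))))

/-- the matrix coefficient -/
def cc (n : Fin m → ℕ) (g : (Ix m → k) ≃ₗ[k] (Ix m → k)) : k := ∏ j, mnr j g ^ n j

/-- the coefficients `a j` of the highest weight: `n j`, and `2 * n j` for the last `j` -/
def aa (n : Fin m → ℕ) (j : Fin m) : ℕ := if j.1 + 1 < m then n j else 2 * n j

/-! ### base change -/

section bc

variable (m) (F K : Type*) [Field F] [Field K] [Algebra F K]

/-- base change of linear automorphisms in coordinates -/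
noncomputable def bcl : ((Ix m → F) ≃ₗ[F] (Ix m → F)) →* ((Ix m → K) ≃ₗ[K] (Ix m → K)) :=
  (glEquiv (Ix m) K).toMonoidHom.comp ((Matrix.GeneralLinearGroup.map (algebraMap F K)).comp
    (glEquiv (Ix m) F).symm.toMonoidHom)

end bc

/-! ### weight vectors of modules for the finite group -/

section wt

variable {F : Type*} [Field F] [Fintype F] {k : Type*} [Field k] [Algebra F k] {W : Type*} [AddCommGroup W]
  [Module k W]

/-- `v` is a weight vector with highest weight data `a` (`card F = p`) -/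
structure IsWt (ρ : GG m F →* Module.End k W) (a : Fin m → ℕ) (v : W) : Prop where
  fix : ∀ i (s : F), ρ (xr i s) v = v
  tor : ∀ i (b : Fˣ) (h : tor (hvec i b) ∈ GG m F),
    ρ ⟨tor (hvec i b), h⟩ v = algebraMap F k (b : F) ^ a i • v
  nn : ∀ i, ρ (xr i (-1) * yr i 1) v =
    - ∑ t : F, algebraMap F k t ^ (Fintype.card F - 1 - a i) • ρ (yr i t) v

end wt

/-! ### the statements of the parts -/

/-- (F1) the simple root elements generate `G(k)`; any field, `2 ≠ 0` -/
def StGen (m : ℕ) (k : Type*) [Field k] : Prop :=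
  ∀ g : GG m k, g ∈ Subgroup.closure {g : GG m k | ∃ i s, g = xr i s ∨ g = yr i s}

/-- (F2) rank one relation; any field, `2 ≠ 0` not needed -/
def StRank (m : ℕ) (k : Type*) [Field k] : Prop :=
  ∀ (i : Fin m) (a s : k) (c : kˣ), (c : k) = 1 + a * s → ∃ h : tor (hvec i c) ∈ GG m k,
    xr i a * yr i s = yr i (s / c) * ⟨tor (hvec i c), h⟩ * xr i (a / c)

/-- (F3) opposite simple root elements commute -/
def StComm (m : ℕ) (k : Type*) [Field k] : Prop :=
  ∀ (i j : Fin m) (a s : k), i ≠ j → xr i a * yr j s = yr j s * xr i a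

/-- (F4) the action of the torus on simple root elements -/
def StTor (m : ℕ) (k : Type*) [Field k] : Prop :=
  ∀ (t : Fin m → kˣ) (ht : tor t ∈ GG m k) (i : Fin m) (a : k),
    ⟨tor t, ht⟩ * xr i a = xr i (rt i t * a) * ⟨tor t, ht⟩ ∧
    ⟨tor t, ht⟩ * yr i a = yr i ((rt i t)⁻¹ * a) * ⟨tor t, ht⟩

/-- (F5) `k` algebraically closed: `G(k)` contains the torus -/
def StTorMem (m : ℕ) (k : Type*) [Field k] : Prop := ∀ t : Fin m → kˣ, tor t ∈ GG m k

/-- (E) `k` algebraically closed of characteristic `p ≠ 2`: elements of finite order prime to `p` are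
conjugate to diagonal elements -/
def StDiag (p m : ℕ) (k : Type*) [Field k] : Prop :=
  ∀ x : GG m k, 0 < orderOf x → (orderOf x).Coprime p →
    ∃ (g : GG m k) (t : Fin m → kˣ), (x : (Ix m → k) ≃ₗ[k] (Ix m → k)) =
      (g : (Ix m → k) ≃ₗ[k] (Ix m → k)) * tor t * (g : (Ix m → k) ≃ₗ[k] (Ix m → k))⁻¹

/-- (D) `k` infinite of characteristic `p ≠ 2`: the zero weight occurs -/
def StZero (p m : ℕ) (k : Type*) [Field k] : Prop :=
  ∀ n : Fin m → ℕ, (∀ j, aa n j < p) → ∃ (g h : GG m k) (S : Finset (Fin m → ℤ)) (C : (Fin m → ℤ) → k),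
    0 ∈ S ∧ C 0 ≠ 0 ∧ ∀ t : Fin m → kˣ,
      cc n ((g : (Ix m → k) ≃ₗ[k] (Ix m → k)) * tor t * (h : (Ix m → k) ≃ₗ[k] (Ix m → k))) =
        ∑ μ ∈ S, C μ * ((∏ i, t i ^ μ i : kˣ) : k)

/-- (A1) simple modules of the finite group have weight vectors (`card F = p` prime, odd, `2 ≤ m`, `k`
algebraically closed) -/
def StWt (m : ℕ) (F : Type*) [Field F] [Fintype F] (k : Type*) [Field k] [Algebra F k] (W : Type*)
    [AddCommGroup W] [Module k W] : Prop :=
  ∀ (ρ : GG m F →* Module.End k W), FiniteDimensional k W → Nontrivial W →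
    (∀ N : Submodule k W, (∀ g, ∀ v ∈ N, ρ g v ∈ N) → N = ⊥ ∨ N = ⊤) →
    ∃ (v : W) (a : Fin m → ℕ), v ≠ 0 ∧ (∀ i, a i < Fintype.card F) ∧
      (∀ i : Fin m, i.1 + 1 = m → Even (a i)) ∧ IsWt ρ a v

/-- (A2) a vector fixed by `U`, and with the rank one condition, generates under `U⁻` all that it generates under
the group; `W` any module (`card F = p` prime, odd) -/
def StNeg (m : ℕ) (F : Type*) [Field F] [Fintype F] (k : Type*) [Field k] (W : Type*) [AddCommGroup W]
    [Module k W] : Prop :=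
  ∀ (ρ : GG m F →* Module.End k W) (w : W), (∀ i (s : F), ρ (xr i s) w = w) →
    (∀ i (b : Fˣ) (h : tor (hvec i b) ∈ GG m F), ∃ c : k, ρ ⟨tor (hvec i b), h⟩ w = c • w) →
    (∀ i, ρ (xr i (-1) * yr i 1) w ∈ Submodule.span k (Set.range fun t : F => ρ (yr i t) w)) →
    ∀ g, ρ g w ∈ Submodule.span k
      {x | ∃ u ∈ Subgroup.closure {g : GG m F | ∃ i s, g = yr i s}, x = ρ u w}

/-- (A3) `U⁻` is a `p`-group (`card F = p` prime) -/
def StPgrp (p m : ℕ) (F : Type*) [Field F] : Prop :=
  IsPGroup p (Subgroup.closure {g : GG m F | ∃ i s, g = yr i s})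

end Cfsg.Agent.H45.Uni
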